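import Cfsg.Agent.Lib.ToddCox.ONO.OrbD
set_option autoImplicit false
set_option maxRecDepth 100000
namespace Cfsg.Agent.Lib.ToddCox.ONO
open Cfsg.Agent.Lib.ToddCox.ON122760 in
theorem lv0_0 : allBits (fun k => bif Nat.blt k 122760 then chkOrbPos Cfsg.Agent.Lib.ToddCox.ON122760.tab L 0 0 122760 122760 (fun q => orbR (Nat.add 0 q)) k else true) 11 0 = true := by decide +kernel
theorem lv0_1 : allBits (fun k => bif Nat.blt k 122760 then chkOrbPos Cfsg.Agent.Lib.ToddCox.ON122760.tab L 0 0 122760 122760 (fun q => orbR (Nat.add 0 q)) k else true) 11 2048 = true := by decide +kernel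
theorem lv0_2 : allBits (fun k => bif Nat.blt k 122760 then chkOrbPos Cfsg.Agent.Lib.ToddCox.ON122760.tab L 0 0 122760 122760 (fun q => orbR (Nat.add 0 q)) k else true) 11 4096 = true := by decide +kernel
theorem lv0_3 : allBits (fun k => bif Nat.blt k 122760 then chkOrbPos Cfsg.Agent.Lib.ToddCox.ON122760.tab L 0 0 122760 122760 (fun q => orbR (Nat.add 0 q)) k else true) 11 6144 = true := by decide +kernel
theorem lv0_4 : allBits (fun k => bif Nat.blt k 122760 then chkOrbPos Cfsg.Agent.Lib.ToddCox.ON122760.tab L 0 0 122760 122760 (fun q => orbR (Nat.add 0 q)) k else true) 11 8192 = true := by decide +kernel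
theorem lv0_5 : allBits (fun k => bif Nat.blt k 122760 then chkOrbPos Cfsg.Agent.Lib.ToddCox.ON122760.tab L 0 0 122760 122760 (fun q => orbR (Nat.add 0 q)) k else true) 11 10240 = true := by decide +kernel
theorem lv0_6 : allBits (fun k => bif Nat.blt k 122760 then chkOrbPos Cfsg.Agent.Lib.ToddCox.ON122760.tab L 0 0 122760 122760 (fun q => orbR (Nat.add 0 q)) k else true) 11 12288 = true := by decide +kernel
theorem lv0_7 : allBits (fun k => bif Nat.blt k 122760 then chkOrbPos Cfsg.Agent.Lib.ToddCox.ON122760.tab L 0 0 122760 122760 (fun q => orbR (Nat.add 0 q)) k else true) 11 14336 = true := by decide +kernel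
theorem lv0_8 : allBits (fun k => bif Nat.blt k 122760 then chkOrbPos Cfsg.Agent.Lib.ToddCox.ON122760.tab L 0 0 122760 122760 (fun q => orbR (Nat.add 0 q)) k else true) 11 16384 = true := by decide +kernel
theorem lv0_9 : allBits (fun k => bif Nat.blt k 122760 then chkOrbPos Cfsg.Agent.Lib.ToddCox.ON122760.tab L 0 0 122760 122760 (fun q => orbR (Nat.add 0 q)) k else true) 11 18432 = true := by decide +kernel
theorem lv0_10 : allBits (fun k => bif Nat.blt k 122760 then chkOrbPos Cfsg.Agent.Lib.ToddCox.ON122760.tab L 0 0 122760 122760 (fun q => orbR (Nat.add 0 q)) k else true) 11 20480 = true := by decide +kernel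
theorem lv0_11 : allBits (fun k => bif Nat.blt k 122760 then chkOrbPos Cfsg.Agent.Lib.ToddCox.ON122760.tab L 0 0 122760 122760 (fun q => orbR (Nat.add 0 q)) k else true) 11 22528 = true := by decide +kernel
theorem lv0_12 : allBits (fun k => bif Nat.blt k 122760 then chkOrbPos Cfsg.Agent.Lib.ToddCox.ON122760.tab L 0 0 122760 122760 (fun q => orbR (Nat.add 0 q)) k else true) 11 24576 = true := by decide +kernel
theorem lv0_13 : allBits (fun k => bif Nat.blt k 122760 then chkOrbPos Cfsg.Agent.Lib.ToddCox.ON122760.tab L 0 0 122760 122760 (fun q => orbR (Nat.add 0 q)) k else true) 11 26624 = true := by decide +kernel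
theorem lv0_14 : allBits (fun k => bif Nat.blt k 122760 then chkOrbPos Cfsg.Agent.Lib.ToddCox.ON122760.tab L 0 0 122760 122760 (fun q => orbR (Nat.add 0 q)) k else true) 11 28672 = true := by decide +kernel
theorem lv0_15 : allBits (fun k => bif Nat.blt k 122760 then chkOrbPos Cfsg.Agent.Lib.ToddCox.ON122760.tab L 0 0 122760 122760 (fun q => orbR (Nat.add 0 q)) k else true) 11 30720 = true := by decide +kernel
theorem lv0_16 : allBits (fun k => bif Nat.blt k 122760 then chkOrbPos Cfsg.Agent.Lib.ToddCox.ON122760.tab L 0 0 122760 122760 (fun q => orbR (Nat.add 0 q)) k else true) 11 32768 = true := by decide +kernel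
theorem lv0_17 : allBits (fun k => bif Nat.blt k 122760 then chkOrbPos Cfsg.Agent.Lib.ToddCox.ON122760.tab L 0 0 122760 122760 (fun q => orbR (Nat.add 0 q)) k else true) 11 34816 = true := by decide +kernel
theorem lv0_18 : allBits (fun k => bif Nat.blt k 122760 then chkOrbPos Cfsg.Agent.Lib.ToddCox.ON122760.tab L 0 0 122760 122760 (fun q => orbR (Nat.add 0 q)) k else true) 11 36864 = true := by decide +kernel
theorem lv0_19 : allBits (fun k => bif Nat.blt k 122760 then chkOrbPos Cfsg.Agent.Lib.ToddCox.ON122760.tab L 0 0 122760 122760 (fun q => orbR (Nat.add 0 q)) k else true) 11 38912 = true := by decide +kernel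
theorem lv0_20 : allBits (fun k => bif Nat.blt k 122760 then chkOrbPos Cfsg.Agent.Lib.ToddCox.ON122760.tab L 0 0 122760 122760 (fun q => orbR (Nat.add 0 q)) k else true) 11 40960 = true := by decide +kernel
theorem lv0_21 : allBits (fun k => bif Nat.blt k 122760 then chkOrbPos Cfsg.Agent.Lib.ToddCox.ON122760.tab L 0 0 122760 122760 (fun q => orbR (Nat.add 0 q)) k else true) 11 43008 = true := by decide +kernel
theorem lv0_22 : allBits (fun k => bif Nat.blt k 122760 then chkOrbPos Cfsg.Agent.Lib.ToddCox.ON122760.tab L 0 0 122760 122760 (fun q => orbR (Nat.add 0 q)) k else true) 11 45056 = true := by decide +kernel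
theorem lv0_23 : allBits (fun k => bif Nat.blt k 122760 then chkOrbPos Cfsg.Agent.Lib.ToddCox.ON122760.tab L 0 0 122760 122760 (fun q => orbR (Nat.add 0 q)) k else true) 11 47104 = true := by decide +kernel
theorem lv0_24 : allBits (fun k => bif Nat.blt k 122760 then chkOrbPos Cfsg.Agent.Lib.ToddCox.ON122760.tab L 0 0 122760 122760 (fun q => orbR (Nat.add 0 q)) k else true) 11 49152 = true := by decide +kernel
theorem lv0_25 : allBits (fun k => bif Nat.blt k 122760 then chkOrbPos Cfsg.Agent.Lib.ToddCox.ON122760.tab L 0 0 122760 122760 (fun q => orbR (Nat.add 0 q)) k else true) 11 51200 = true := by decide +kernel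
theorem lv0_26 : allBits (fun k => bif Nat.blt k 122760 then chkOrbPos Cfsg.Agent.Lib.ToddCox.ON122760.tab L 0 0 122760 122760 (fun q => orbR (Nat.add 0 q)) k else true) 11 53248 = true := by decide +kernel
theorem lv0_27 : allBits (fun k => bif Nat.blt k 122760 then chkOrbPos Cfsg.Agent.Lib.ToddCox.ON122760.tab L 0 0 122760 122760 (fun q => orbR (Nat.add 0 q)) k else true) 11 55296 = true := by decide +kernel
theorem lv0_28 : allBits (fun k => bif Nat.blt k 122760 then chkOrbPos Cfsg.Agent.Lib.ToddCox.ON122760.tab L 0 0 122760 122760 (fun q => orbR (Nat.add 0 q)) k else true) 11 57344 = true := by decide +kernel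
theorem lv0_29 : allBits (fun k => bif Nat.blt k 122760 then chkOrbPos Cfsg.Agent.Lib.ToddCox.ON122760.tab L 0 0 122760 122760 (fun q => orbR (Nat.add 0 q)) k else true) 11 59392 = true := by decide +kernel
theorem lv0_30 : allBits (fun k => bif Nat.blt k 122760 then chkOrbPos Cfsg.Agent.Lib.ToddCox.ON122760.tab L 0 0 122760 122760 (fun q => orbR (Nat.add 0 q)) k else true) 11 61440 = true := by decide +kernel
theorem lv0_31 : allBits (fun k => bif Nat.blt k 122760 then chkOrbPos Cfsg.Agent.Lib.ToddCox.ON122760.tab L 0 0 122760 122760 (fun q => orbR (Nat.add 0 q)) k else true) 11 63488 = true := by decide +kernel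
theorem lv0_32 : allBits (fun k => bif Nat.blt k 122760 then chkOrbPos Cfsg.Agent.Lib.ToddCox.ON122760.tab L 0 0 122760 122760 (fun q => orbR (Nat.add 0 q)) k else true) 11 65536 = true := by decide +kernel
theorem lv0_33 : allBits (fun k => bif Nat.blt k 122760 then chkOrbPos Cfsg.Agent.Lib.ToddCox.ON122760.tab L 0 0 122760 122760 (fun q => orbR (Nat.add 0 q)) k else true) 11 67584 = true := by decide +kernel
theorem lv0_34 : allBits (fun k => bif Nat.blt k 122760 then chkOrbPos Cfsg.Agent.Lib.ToddCox.ON122760.tab L 0 0 122760 122760 (fun q => orbR (Nat.add 0 q)) k else true) 11 69632 = true := by decide +kernel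
theorem lv0_35 : allBits (fun k => bif Nat.blt k 122760 then chkOrbPos Cfsg.Agent.Lib.ToddCox.ON122760.tab L 0 0 122760 122760 (fun q => orbR (Nat.add 0 q)) k else true) 11 71680 = true := by decide +kernel
theorem lv0_36 : allBits (fun k => bif Nat.blt k 122760 then chkOrbPos Cfsg.Agent.Lib.ToddCox.ON122760.tab L 0 0 122760 122760 (fun q => orbR (Nat.add 0 q)) k else true) 11 73728 = true := by decide +kernel
theorem lv0_37 : allBits (fun k => bif Nat.blt k 122760 then chkOrbPos Cfsg.Agent.Lib.ToddCox.ON122760.tab L 0 0 122760 122760 (fun q => orbR (Nat.add 0 q)) k else true) 11 75776 = true := by decide +kernel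
theorem lv0_38 : allBits (fun k => bif Nat.blt k 122760 then chkOrbPos Cfsg.Agent.Lib.ToddCox.ON122760.tab L 0 0 122760 122760 (fun q => orbR (Nat.add 0 q)) k else true) 11 77824 = true := by decide +kernel
theorem lv0_39 : allBits (fun k => bif Nat.blt k 122760 then chkOrbPos Cfsg.Agent.Lib.ToddCox.ON122760.tab L 0 0 122760 122760 (fun q => orbR (Nat.add 0 q)) k else true) 11 79872 = true := by decide +kernel
theorem lv0_40 : allBits (fun k => bif Nat.blt k 122760 then chkOrbPos Cfsg.Agent.Lib.ToddCox.ON122760.tab L 0 0 122760 122760 (fun q => orbR (Nat.add 0 q)) k else true) 11 81920 = true := by decide +kernel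
theorem lv0_41 : allBits (fun k => bif Nat.blt k 122760 then chkOrbPos Cfsg.Agent.Lib.ToddCox.ON122760.tab L 0 0 122760 122760 (fun q => orbR (Nat.add 0 q)) k else true) 11 83968 = true := by decide +kernel
theorem lv0_42 : allBits (fun k => bif Nat.blt k 122760 then chkOrbPos Cfsg.Agent.Lib.ToddCox.ON122760.tab L 0 0 122760 122760 (fun q => orbR (Nat.add 0 q)) k else true) 11 86016 = true := by decide +kernel
theorem lv0_43 : allBits (fun k => bif Nat.blt k 122760 then chkOrbPos Cfsg.Agent.Lib.ToddCox.ON122760.tab L 0 0 122760 122760 (fun q => orbR (Nat.add 0 q)) k else true) 11 88064 = true := by decide +kernel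
theorem lv0_44 : allBits (fun k => bif Nat.blt k 122760 then chkOrbPos Cfsg.Agent.Lib.ToddCox.ON122760.tab L 0 0 122760 122760 (fun q => orbR (Nat.add 0 q)) k else true) 11 90112 = true := by decide +kernel
theorem lv0_45 : allBits (fun k => bif Nat.blt k 122760 then chkOrbPos Cfsg.Agent.Lib.ToddCox.ON122760.tab L 0 0 122760 122760 (fun q => orbR (Nat.add 0 q)) k else true) 11 92160 = true := by decide +kernel
theorem lv0_46 : allBits (fun k => bif Nat.blt k 122760 then chkOrbPos Cfsg.Agent.Lib.ToddCox.ON122760.tab L 0 0 122760 122760 (fun q => orbR (Nat.add 0 q)) k else true) 11 94208 = true := by decide +kernel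
theorem lv0_47 : allBits (fun k => bif Nat.blt k 122760 then chkOrbPos Cfsg.Agent.Lib.ToddCox.ON122760.tab L 0 0 122760 122760 (fun q => orbR (Nat.add 0 q)) k else true) 11 96256 = true := by decide +kernel
theorem lv0_48 : allBits (fun k => bif Nat.blt k 122760 then chkOrbPos Cfsg.Agent.Lib.ToddCox.ON122760.tab L 0 0 122760 122760 (fun q => orbR (Nat.add 0 q)) k else true) 11 98304 = true := by decide +kernel
theorem lv0_49 : allBits (fun k => bif Nat.blt k 122760 then chkOrbPos Cfsg.Agent.Lib.ToddCox.ON122760.tab L 0 0 122760 122760 (fun q => orbR (Nat.add 0 q)) k else true) 11 100352 = true := by decide +kernel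
theorem lv0_50 : allBits (fun k => bif Nat.blt k 122760 then chkOrbPos Cfsg.Agent.Lib.ToddCox.ON122760.tab L 0 0 122760 122760 (fun q => orbR (Nat.add 0 q)) k else true) 11 102400 = true := by decide +kernel
theorem lv0_51 : allBits (fun k => bif Nat.blt k 122760 then chkOrbPos Cfsg.Agent.Lib.ToddCox.ON122760.tab L 0 0 122760 122760 (fun q => orbR (Nat.add 0 q)) k else true) 11 104448 = true := by decide +kernel
theorem lv0_52 : allBits (fun k => bif Nat.blt k 122760 then chkOrbPos Cfsg.Agent.Lib.ToddCox.ON122760.tab L 0 0 122760 122760 (fun q => orbR (Nat.add 0 q)) k else true) 11 106496 = true := by decide +kernel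
theorem lv0_53 : allBits (fun k => bif Nat.blt k 122760 then chkOrbPos Cfsg.Agent.Lib.ToddCox.ON122760.tab L 0 0 122760 122760 (fun q => orbR (Nat.add 0 q)) k else true) 11 108544 = true := by decide +kernel
theorem lv0_54 : allBits (fun k => bif Nat.blt k 122760 then chkOrbPos Cfsg.Agent.Lib.ToddCox.ON122760.tab L 0 0 122760 122760 (fun q => orbR (Nat.add 0 q)) k else true) 11 110592 = true := by decide +kernel
theorem lv0_55 : allBits (fun k => bif Nat.blt k 122760 then chkOrbPos Cfsg.Agent.Lib.ToddCox.ON122760.tab L 0 0 122760 122760 (fun q => orbR (Nat.add 0 q)) k else true) 11 112640 = true := by decide +kernel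
theorem lv0_56 : allBits (fun k => bif Nat.blt k 122760 then chkOrbPos Cfsg.Agent.Lib.ToddCox.ON122760.tab L 0 0 122760 122760 (fun q => orbR (Nat.add 0 q)) k else true) 11 114688 = true := by decide +kernel
theorem lv0_57 : allBits (fun k => bif Nat.blt k 122760 then chkOrbPos Cfsg.Agent.Lib.ToddCox.ON122760.tab L 0 0 122760 122760 (fun q => orbR (Nat.add 0 q)) k else true) 11 116736 = true := by decide +kernel
theorem lv0_58 : allBits (fun k => bif Nat.blt k 122760 then chkOrbPos Cfsg.Agent.Lib.ToddCox.ON122760.tab L 0 0 122760 122760 (fun q => orbR (Nat.add 0 q)) k else true) 11 118784 = true := by decide +kernel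
theorem lv0_59 : allBits (fun k => bif Nat.blt k 122760 then chkOrbPos Cfsg.Agent.Lib.ToddCox.ON122760.tab L 0 0 122760 122760 (fun q => orbR (Nat.add 0 q)) k else true) 11 120832 = true := by decide +kernel
theorem fx0 : ∀ w ∈ L.drop 7, tabW Cfsg.Agent.Lib.ToddCox.ON122760.tab w 0 = 0 := by decide +kernel
theorem lv1_0 : allBits (fun k => bif Nat.blt k 58653 then chkOrbPos Cfsg.Agent.Lib.ToddCox.ON122760.tab L 7 1 58653 122760 (fun q => orbR (Nat.add 122760 q)) k else true) 11 0 = true := by decide +kernel
theorem lv1_1 : allBits (fun k => bif Nat.blt k 58653 then chkOrbPos Cfsg.Agent.Lib.ToddCox.ON122760.tab L 7 1 58653 122760 (fun q => orbR (Nat.add 122760 q)) k else true) 11 2048 = true := by decide +kernel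
theorem lv1_2 : allBits (fun k => bif Nat.blt k 58653 then chkOrbPos Cfsg.Agent.Lib.ToddCox.ON122760.tab L 7 1 58653 122760 (fun q => orbR (Nat.add 122760 q)) k else true) 11 4096 = true := by decide +kernel
theorem lv1_3 : allBits (fun k => bif Nat.blt k 58653 then chkOrbPos Cfsg.Agent.Lib.ToddCox.ON122760.tab L 7 1 58653 122760 (fun q => orbR (Nat.add 122760 q)) k else true) 11 6144 = true := by decide +kernel
theorem lv1_4 : allBits (fun k => bif Nat.blt k 58653 then chkOrbPos Cfsg.Agent.Lib.ToddCox.ON122760.tab L 7 1 58653 122760 (fun q => orbR (Nat.add 122760 q)) k else true) 11 8192 = true := by decide +kernel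
theorem lv1_5 : allBits (fun k => bif Nat.blt k 58653 then chkOrbPos Cfsg.Agent.Lib.ToddCox.ON122760.tab L 7 1 58653 122760 (fun q => orbR (Nat.add 122760 q)) k else true) 11 10240 = true := by decide +kernel
theorem lv1_6 : allBits (fun k => bif Nat.blt k 58653 then chkOrbPos Cfsg.Agent.Lib.ToddCox.ON122760.tab L 7 1 58653 122760 (fun q => orbR (Nat.add 122760 q)) k else true) 11 12288 = true := by decide +kernel
theorem lv1_7 : allBits (fun k => bif Nat.blt k 58653 then chkOrbPos Cfsg.Agent.Lib.ToddCox.ON122760.tab L 7 1 58653 122760 (fun q => orbR (Nat.add 122760 q)) k else true) 11 14336 = true := by decide +kernel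
theorem lv1_8 : allBits (fun k => bif Nat.blt k 58653 then chkOrbPos Cfsg.Agent.Lib.ToddCox.ON122760.tab L 7 1 58653 122760 (fun q => orbR (Nat.add 122760 q)) k else true) 11 16384 = true := by decide +kernel
theorem lv1_9 : allBits (fun k => bif Nat.blt k 58653 then chkOrbPos Cfsg.Agent.Lib.ToddCox.ON122760.tab L 7 1 58653 122760 (fun q => orbR (Nat.add 122760 q)) k else true) 11 18432 = true := by decide +kernel
theorem lv1_10 : allBits (fun k => bif Nat.blt k 58653 then chkOrbPos Cfsg.Agent.Lib.ToddCox.ON122760.tab L 7 1 58653 122760 (fun q => orbR (Nat.add 122760 q)) k else true) 11 20480 = true := by decide +kernel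
theorem lv1_11 : allBits (fun k => bif Nat.blt k 58653 then chkOrbPos Cfsg.Agent.Lib.ToddCox.ON122760.tab L 7 1 58653 122760 (fun q => orbR (Nat.add 122760 q)) k else true) 11 22528 = true := by decide +kernel
theorem lv1_12 : allBits (fun k => bif Nat.blt k 58653 then chkOrbPos Cfsg.Agent.Lib.ToddCox.ON122760.tab L 7 1 58653 122760 (fun q => orbR (Nat.add 122760 q)) k else true) 11 24576 = true := by decide +kernel
theorem lv1_13 : allBits (fun k => bif Nat.blt k 58653 then chkOrbPos Cfsg.Agent.Lib.ToddCox.ON122760.tab L 7 1 58653 122760 (fun q => orbR (Nat.add 122760 q)) k else true) 11 26624 = true := by decide +kernel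
theorem lv1_14 : allBits (fun k => bif Nat.blt k 58653 then chkOrbPos Cfsg.Agent.Lib.ToddCox.ON122760.tab L 7 1 58653 122760 (fun q => orbR (Nat.add 122760 q)) k else true) 11 28672 = true := by decide +kernel
theorem lv1_15 : allBits (fun k => bif Nat.blt k 58653 then chkOrbPos Cfsg.Agent.Lib.ToddCox.ON122760.tab L 7 1 58653 122760 (fun q => orbR (Nat.add 122760 q)) k else true) 11 30720 = true := by decide +kernel
theorem lv1_16 : allBits (fun k => bif Nat.blt k 58653 then chkOrbPos Cfsg.Agent.Lib.ToddCox.ON122760.tab L 7 1 58653 122760 (fun q => orbR (Nat.add 122760 q)) k else true) 11 32768 = true := by decide +kernel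
theorem lv1_17 : allBits (fun k => bif Nat.blt k 58653 then chkOrbPos Cfsg.Agent.Lib.ToddCox.ON122760.tab L 7 1 58653 122760 (fun q => orbR (Nat.add 122760 q)) k else true) 11 34816 = true := by decide +kernel
theorem lv1_18 : allBits (fun k => bif Nat.blt k 58653 then chkOrbPos Cfsg.Agent.Lib.ToddCox.ON122760.tab L 7 1 58653 122760 (fun q => orbR (Nat.add 122760 q)) k else true) 11 36864 = true := by decide +kernel
theorem lv1_19 : allBits (fun k => bif Nat.blt k 58653 then chkOrbPos Cfsg.Agent.Lib.ToddCox.ON122760.tab L 7 1 58653 122760 (fun q => orbR (Nat.add 122760 q)) k else true) 11 38912 = true := by decide +kernel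
theorem lv1_20 : allBits (fun k => bif Nat.blt k 58653 then chkOrbPos Cfsg.Agent.Lib.ToddCox.ON122760.tab L 7 1 58653 122760 (fun q => orbR (Nat.add 122760 q)) k else true) 11 40960 = true := by decide +kernel
theorem lv1_21 : allBits (fun k => bif Nat.blt k 58653 then chkOrbPos Cfsg.Agent.Lib.ToddCox.ON122760.tab L 7 1 58653 122760 (fun q => orbR (Nat.add 122760 q)) k else true) 11 43008 = true := by decide +kernel
theorem lv1_22 : allBits (fun k => bif Nat.blt k 58653 then chkOrbPos Cfsg.Agent.Lib.ToddCox.ON122760.tab L 7 1 58653 122760 (fun q => orbR (Nat.add 122760 q)) k else true) 11 45056 = true := by decide +kernel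
theorem lv1_23 : allBits (fun k => bif Nat.blt k 58653 then chkOrbPos Cfsg.Agent.Lib.ToddCox.ON122760.tab L 7 1 58653 122760 (fun q => orbR (Nat.add 122760 q)) k else true) 11 47104 = true := by decide +kernel
theorem lv1_24 : allBits (fun k => bif Nat.blt k 58653 then chkOrbPos Cfsg.Agent.Lib.ToddCox.ON122760.tab L 7 1 58653 122760 (fun q => orbR (Nat.add 122760 q)) k else true) 11 49152 = true := by decide +kernel
theorem lv1_25 : allBits (fun k => bif Nat.blt k 58653 then chkOrbPos Cfsg.Agent.Lib.ToddCox.ON122760.tab L 7 1 58653 122760 (fun q => orbR (Nat.add 122760 q)) k else true) 11 51200 = true := by decide +kernel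
theorem lv1_26 : allBits (fun k => bif Nat.blt k 58653 then chkOrbPos Cfsg.Agent.Lib.ToddCox.ON122760.tab L 7 1 58653 122760 (fun q => orbR (Nat.add 122760 q)) k else true) 11 53248 = true := by decide +kernel
theorem lv1_27 : allBits (fun k => bif Nat.blt k 58653 then chkOrbPos Cfsg.Agent.Lib.ToddCox.ON122760.tab L 7 1 58653 122760 (fun q => orbR (Nat.add 122760 q)) k else true) 11 55296 = true := by decide +kernel
theorem lv1_28 : allBits (fun k => bif Nat.blt k 58653 then chkOrbPos Cfsg.Agent.Lib.ToddCox.ON122760.tab L 7 1 58653 122760 (fun q => orbR (Nat.add 122760 q)) k else true) 11 57344 = true := by decide +kernel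
theorem fx1 : ∀ w ∈ L.drop 13, tabW Cfsg.Agent.Lib.ToddCox.ON122760.tab w 1 = 1 := by decide +kernel
theorem lv2_0 : allBits (fun k => bif Nat.blt k 64 then chkOrbPos Cfsg.Agent.Lib.ToddCox.ON122760.tab L 13 21 64 122760 (fun q => orbR (Nat.add 181413 q)) k else true) 11 0 = true := by decide +kernel
theorem fx2 : ∀ w ∈ L.drop 17, tabW Cfsg.Agent.Lib.ToddCox.ON122760.tab w 21 = 21 := by decide +kernel
end Cfsg.Agent.Lib.ToddCox.ONO
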